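import Groth.Agent.FlatEtOpen.ML
import Groth.Agent.S0448
import Mathlib.RingTheory.Ideal.AssociatedPrime.Finiteness

/-! An element of the ground algebra avoiding the associated points of the closed fibre. -/

set_option autoImplicit false
set_option backward.isDefEq.respectTransparency false
set_option backward.isDefEq.respectTransparency.types false
attribute [-instance] CategoryTheory.catToReflQuiver

universe u

open TensorProduct IsLocalRing

namespace Groth.Agent.FlatEtOpen

theorem exists_basic_avoiding {SA C : Type u} [CommRing SA] [CommRing C] [Algebra SA C] [Algebra.Etale SA C]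
    (s : Finset (Ideal C)) (hs : ∀ P ∈ s, P.IsPrime) (x : Ideal C) [hx : x.IsPrime] :
    ∃ c : SA, algebraMap SA C c ∉ x ∧ (∀ P ∈ s, algebraMap SA C c ∉ P) ∧
      (PrimeSpectrum.basicOpen c : Set (PrimeSpectrum SA)) ⊆ Set.range (PrimeSpectrum.comap (algebraMap SA C)) := by
  classical
  have hopen : IsOpen (Set.range (PrimeSpectrum.comap (algebraMap SA C))) := by
    rw [← Set.image_univ]
    exact PrimeSpectrum.isOpenMap_comap_of_hasGoingDown_of_finitePresentation _ isOpen_univ
  obtain ⟨I, hI⟩ := (PrimeSpectrum.isClosed_iff_zeroLocus_ideal _).1 hopen.isClosed_compl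
  let t : Finset (Ideal SA) := (insert x s).image (Ideal.comap (algebraMap SA C))
  have ht : ∀ Q ∈ t, Q.IsPrime ∧ ¬ I ≤ Q := fun Q hQ => by
    obtain ⟨P, hP, rfl⟩ := Finset.mem_image.1 hQ
    haveI : P.IsPrime := by
      rcases Finset.mem_insert.1 hP with h | h
      · rw [h]; exact hx
      · exact hs P h
    refine ⟨Ideal.IsPrime.comap _, fun hle => ?_⟩
    have h1 : (⟨P.comap (algebraMap SA C), Ideal.IsPrime.comap _⟩ : PrimeSpectrum SA) ∈
        (Set.range (PrimeSpectrum.comap (algebraMap SA C)))ᶜ := by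
      rw [hI]
      exact hle
    exact h1 ⟨⟨P, ‹P.IsPrime›⟩, rfl⟩
  obtain ⟨c, hcI, hc⟩ : ∃ c ∈ I, ∀ Q ∈ t, c ∉ Q := by
    by_contra hne
    push Not at hne
    obtain ⟨Q, hQ, hle⟩ := (Ideal.subset_union_prime (f := id) ⊥ ⊥ (fun Q hQ _ _ => (ht Q hQ).1) (I := I) (s := t)).1
      fun c hcI => by
        obtain ⟨Q, hQ, hcQ⟩ := hne c hcI
        exact Set.mem_biUnion (x := Q) hQ hcQ
    exact (ht Q hQ).2 hle
  refine ⟨c, fun h => hc _ (Finset.mem_image_of_mem _ (Finset.mem_insert_self x s)) h,
    fun P hP h => hc _ (Finset.mem_image_of_mem _ (Finset.mem_insert_of_mem hP)) h, fun Q hQ => ?_⟩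
  by_contra hQ'
  have h2 : Q ∈ PrimeSpectrum.zeroLocus (I : Set SA) := hI ▸ hQ'
  exact hQ (h2 hcI)

variable {A C : Type u} [CommRing A] [IsLocalRing A] [CommRing C] [Algebra A C]

/-- Over a local ring, there are finitely many primes outside of which elements act universally injectively. -/
theorem exists_finset_primes [Algebra.FiniteType A C] (M : Type u) [AddCommGroup M] [Module C M] [Module A M]
    [IsScalarTower A C M] [Module.Finite C M] [Module.Projective A M] :
    ∃ s : Finset (Ideal C), (∀ P ∈ s, P.IsPrime) ∧ ∀ u : C, (∀ P ∈ s, u ∉ P) →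
      CAlgX.UniversallyInjective A ((LinearMap.lsmul C M u).restrictScalars A) := by
  classical
  let m := maximalIdeal A
  let mC := m.map (algebraMap A C)
  let Cb := C ⧸ mC
  letI : Field (A ⧸ m) := Ideal.Quotient.field m
  haveI : Algebra.FiniteType A Cb := inferInstance
  haveI : Algebra.FiniteType (A ⧸ m) Cb := Algebra.FiniteType.of_restrictScalars_finiteType A (A ⧸ m) Cb
  haveI : IsNoetherianRing Cb := Algebra.FiniteType.isNoetherianRing (A ⧸ m) Cb
  let Mb := M ⧸ (mC • ⊤ : Submodule C M)
  haveI : Module.Finite Cb Mb := Module.Finite.of_restrictScalars_finite C Cb Mb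
  have hfin := associatedPrimes.finite Cb Mb
  refine ⟨hfin.toFinset.image (Ideal.comap (Ideal.Quotient.mk mC)), fun P hP => ?_, fun u hu => ?_⟩
  · obtain ⟨Q, hQ, rfl⟩ := Finset.mem_image.1 hP
    haveI := (hfin.mem_toFinset.1 hQ).isPrime
    exact Ideal.IsPrime.comap _
  · have hinj : ∀ y : Mb, u • y = 0 → y = 0 := fun y hy => by
      by_contra hy0
      have hmem : Ideal.Quotient.mk mC u ∈ {r : Cb | ∃ z : Mb, z ≠ 0 ∧ r • z = 0} := ⟨y, hy0, hy⟩
      rw [← biUnion_associatedPrimes_eq_zero_divisors] at hmem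
      obtain ⟨Q, hQ, huQ⟩ := Set.mem_iUnion₂.1 hmem
      exact hu _ (Finset.mem_image_of_mem _ (hfin.mem_toFinset.2 hQ)) huQ
    let φ : M →ₗ[A] M := (LinearMap.lsmul C M u).restrictScalars A
    have hsm : (mC • ⊤ : Submodule C M).restrictScalars A = m • ⊤ := by
      rw [Submodule.restrictScalars_map_smul_eq, Submodule.restrictScalars_top]
    let eq' : (M ⧸ (m • ⊤ : Submodule A M)) ≃ₗ[A] Mb :=
      (Submodule.quotEquivOfEq _ _ hsm.symm).trans (Submodule.Quotient.restrictScalarsEquiv A (mC • ⊤ : Submodule C M))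
    let e : (A ⧸ m) ⊗[A] M ≃ₗ[A] Mb := (TensorProduct.quotTensorEquivQuotSMul M m).trans eq'
    have hcomm : ∀ z, e (φ.lTensor (A ⧸ m) z) = u • e z := fun z => by
      induction z using TensorProduct.induction_on with
      | zero => simp
      | add a b ha hb => simp only [map_add, ha, hb, smul_add]
      | tmul a b =>
        obtain ⟨r, rfl⟩ := Ideal.Quotient.mk_surjective a
        rw [LinearMap.lTensor_tmul]
        simp only [e, LinearEquiv.trans_apply, TensorProduct.quotTensorEquivQuotSMul_mk_tmul]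
        show (Submodule.Quotient.mk (r • (u • b)) : Mb) = u • Submodule.Quotient.mk (r • b)
        rw [← Submodule.Quotient.mk_smul, smul_comm]
    refine fun Q _ _ => Groth.Agent.S0448.result φ ?_ Q
    rw [injective_iff_map_eq_zero]
    intro z hz
    refine (e.map_eq_zero_iff).1 (hinj _ ?_)
    have h2 := congrArg e hz
    rw [map_zero] at h2
    exact (hcomm z).symm.trans h2

end Groth.Agent.FlatEtOpen
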