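import Groth.Agent.FlatEtOpen.Avoid
import Groth.Agent.FlatEtNhd.Near

/-! Free sections on an affine open over the local ring of a neighbourhood. -/

set_option autoImplicit false
set_option backward.isDefEq.respectTransparency false
set_option backward.isDefEq.respectTransparency.types false
attribute [-instance] CategoryTheory.catToReflQuiver

universe u

open TensorProduct IsLocalRing AlgebraicGeometry CategoryTheory

namespace Groth.Agent.FlatEtOpen

set_option maxHeartbeats 800000 in
theorem exists_open_free (A : Type u) [CommRing A] [IsLocalRing A] {SA C : Type u} [CommRing SA] [CommRing C]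
    [Algebra A SA] [Algebra SA C] [Algebra A C] [IsScalarTower A SA C] [Algebra.FiniteType A SA] [Algebra.Etale SA C]
    (NA : Type u) [AddCommGroup NA] [Module SA NA] [Module.Finite SA NA] (x : Ideal C) [hx : x.IsPrime]
    (hfree : Module.Free A (RestrictScalars A C (C ⊗[SA] NA))) :
    ∃ (B : Type u) (_ : CommRing B) (_ : Algebra SA B) (_ : Algebra A B) (_ : IsScalarTower A SA B)
      (x' : Ideal B) (_ : x'.IsPrime), IsOpenImmersion (Spec.map (CommRingCat.ofHom (algebraMap SA B))) ∧
      x'.comap (algebraMap SA B) = x.comap (algebraMap SA C) ∧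
      Module.Free A (RestrictScalars A B (B ⊗[SA] NA)) := by
  letI : Module A NA := Module.compHom NA (algebraMap A SA)
  haveI : IsScalarTower A SA NA := IsScalarTower.of_algebraMap_smul fun _ _ => rfl
  haveI : Algebra.FiniteType A C := Algebra.FiniteType.trans (S := SA) inferInstance inferInstance
  let M := C ⊗[SA] NA
  let eM : RestrictScalars A C M ≃ₗ[A] M :=
    { RestrictScalars.addEquiv A C M with map_smul' := fun a m => IsScalarTower.algebraMap_smul C a _ }
  haveI := hfree
  haveI : Module.Free A M := Module.Free.of_equiv eM
  obtain ⟨s, hs, hui⟩ := exists_finset_primes (A := A) (C := C) M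
  obtain ⟨c, hcx, hcs, hsub⟩ := exists_basic_avoiding (SA := SA) s hs x
  let B := Localization.Away c
  obtain ⟨hx', hx'x⟩ := FlatDevLoc.isPrime_map_away (T' := B) c (x.comap (algebraMap SA C)) hcx
  haveI := hx'
  haveI : Module.Projective A (B ⊗[SA] NA) := projective_of_image NA c hsub (hui _ hcs) B
  have hcount : CAlg.IsCountablyGenerated A (B ⊗[SA] NA) := by
    haveI : Algebra.FiniteType SA B :=
      haveI := IsLocalization.Away.finitePresentation (S := B) c
      inferInstance
    haveI : Algebra.FiniteType A B := Algebra.FiniteType.trans (S := SA) inferInstance inferInstance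
    exact countablyGenerated_of_finiteType B _
  haveI : Module.Free A (B ⊗[SA] NA) := CAlgUI.free_of_countablyGenerated hcount
  refine ⟨B, inferInstance, inferInstance, inferInstance, inferInstance, (x.comap (algebraMap SA C)).map (algebraMap SA B),
    hx', IsOpenImmersion.of_isLocalization c, hx'x.over.symm, ?_⟩
  exact Module.Free.of_equiv ({ (RestrictScalars.addEquiv A B (B ⊗[SA] NA)).symm with
    map_smul' := fun a m => (IsScalarTower.algebraMap_smul B a m).symm } :
      (B ⊗[SA] NA) ≃ₗ[A] RestrictScalars A B (B ⊗[SA] NA))

theorem finiteType_of_isPushout {R A S SA : Type u} [CommRing R] [CommRing A] [CommRing S] [CommRing SA] [Algebra R A]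
    [Algebra R S] [Algebra A SA] [Algebra S SA] [Algebra R SA] [IsScalarTower R A SA] [IsScalarTower R S SA]
    [Algebra.IsPushout R S A SA] [Algebra.FiniteType R S] : Algebra.FiniteType A SA := by
  haveI : Algebra.IsPushout R A S SA := Algebra.IsPushout.symm inferInstance
  exact Algebra.FiniteType.equiv (inferInstanceAs (Algebra.FiniteType A (A ⊗[R] S))) (Algebra.IsPushout.equiv R A S SA)

theorem finite_of_isBaseChange {S SA N NA : Type u} [CommRing S] [CommRing SA] [Algebra S SA] [AddCommGroup N]
    [Module S N] [AddCommGroup NA] [Module SA NA] [Module S NA] [IsScalarTower S SA NA] {f : N →ₗ[S] NA}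
    (hf : IsBaseChange SA f) [Module.Finite S N] : Module.Finite SA NA :=
  Module.Finite.equiv hf.equiv

end Groth.Agent.FlatEtOpen
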