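import Groth.Agent.FlatEtNhd.Descend
import Groth.Agent.CAlgUI.Countable
import Groth.Agent.CAlgUI.Projective
import Groth.Agent.CAlgUI.Local

/-! Projectivity on an open set in the image of an etale map. -/

set_option autoImplicit false
set_option backward.isDefEq.respectTransparency false
set_option backward.isDefEq.respectTransparency.types false
attribute [-instance] CategoryTheory.catToReflQuiver

universe u

open TensorProduct
open scoped Pointwise

namespace Groth.Agent.FlatEtOpen

variable {A C : Type u} [CommRing A] [CommRing C] [Algebra A C]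

/-- Inverting a universally injective element keeps a module Mittag-Leffler. -/
theorem ml_away {M M' : Type u} [AddCommGroup M] [Module C M] [Module A M] [IsScalarTower A C M]
    [AddCommGroup M'] [Module C M'] [Module A M'] [IsScalarTower A C M'] (u : C) (l : M →ₗ[C] M')
    [IsLocalizedModule (Submonoid.powers u) l]
    (hu : CAlgX.UniversallyInjective A ((LinearMap.lsmul C M u).restrictScalars A))
    (hM : CAlg.IsMittagLeffler A M) : CAlg.IsMittagLeffler A M' := by
  rw [Groth.Agent.CAlgUI.ml_iff]
  intro ι Q _ _ t ht
  have hinj : ∀ (X : Type u) [AddCommGroup X] [Module A X] (k : ℕ) (z : M ⊗[A] X), u ^ k • z = 0 → z = 0 := by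
    intro X _ _ k
    induction k with
    | zero => intro z hz; rwa [pow_zero, one_smul] at hz
    | succ k ih =>
      intro z hz
      rw [pow_succ, mul_smul] at hz
      have h := ih _ hz
      refine hu X (a₁ := z) (a₂ := 0) ?_
      rw [map_zero, ← h]
      clear hz h
      induction z using TensorProduct.induction_on with
      | zero => simp
      | add a b ha hb => simp only [map_add, smul_add, ha, hb]
      | tmul a b => rfl
  let L := fun (X : Type u) (_ : AddCommGroup X) (_ : Module A X) => TensorProduct.AlgebraTensorModule.rTensor A X l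
  obtain ⟨⟨t', s⟩, hs0⟩ := IsLocalizedModule.surj (Submonoid.powers u)
    (TensorProduct.AlgebraTensorModule.rTensor A (∀ i, Q i) l) t
  have hs : (s : C) • t = TensorProduct.AlgebraTensorModule.rTensor A (∀ i, Q i) l t' := hs0
  clear hs0
  have ht' : t' = 0 := by
    refine (Groth.Agent.CAlgUI.ml_iff.1 hM) ι Q t' fun i => ?_
    have h2 : TensorProduct.AlgebraTensorModule.rTensor A (Q i) l (TensorProduct.piRightHom A A M Q t' i) = 0 := by
      have h3 : (TensorProduct.AlgebraTensorModule.lTensor C M' (LinearMap.proj (R := A) (φ := Q) i))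
          (TensorProduct.AlgebraTensorModule.rTensor A (∀ i, Q i) l t') = 0 := by
        rw [← hs, map_smul]
        have h4 : (LinearMap.proj (R := A) (φ := Q) i).lTensor M' t = 0 := by
          rw [← Groth.Agent.CAlgUI.piRightHom_eq_proj]; exact ht i
        show (s : C) • (LinearMap.proj (R := A) (φ := Q) i).lTensor M' t = 0
        rw [h4, smul_zero]
      rw [Groth.Agent.CAlgUI.piRightHom_eq_proj, ← h3]
      clear hs h3 ht
      induction t' using TensorProduct.induction_on with
      | zero => simp
      | add a b ha hb => simp only [map_add]; exact congrArg₂ (· + ·) ha hb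
      | tmul a b => rfl
    obtain ⟨⟨_, k, rfl⟩, hk⟩ := (IsLocalizedModule.eq_zero_iff (Submonoid.powers u)
      (TensorProduct.AlgebraTensorModule.rTensor A (Q i) l)).1 h2
    exact hinj _ k _ hk
  rw [ht', map_zero] at hs
  have hunit := IsLocalizedModule.map_units (TensorProduct.AlgebraTensorModule.rTensor A (∀ i, Q i) l) s
  rw [Module.End.isUnit_iff] at hunit
  exact hunit.injective (hs.trans (smul_zero (A := M' ⊗[A] (∀ i, Q i)) (s : C)).symm)

/-- A base change along a faithfully flat algebra is universally injective over the base. -/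
theorem ui_of_faithfullyFlat {B B' L L' : Type u} [CommRing B] [CommRing B'] [Algebra A B] [Algebra B B']
    [Algebra A B'] [IsScalarTower A B B'] [Module.FaithfullyFlat B B'] [AddCommGroup L] [Module B L] [Module A L] [IsScalarTower A B L] [AddCommGroup L']
    [Module B' L'] [Module B L'] [IsScalarTower B B' L'] [Module A L'] [IsScalarTower A B L'] (f : L →ₗ[B] L')
    (hf : IsBaseChange B' f) : CAlgX.UniversallyInjective A (f.restrictScalars A) := by
  intro N _ _
  let u : (L ⊗[A] N) →ₗ[B] L' ⊗[A] N := AlgebraTensorModule.rTensor A N f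
  let e : B' ⊗[B] (L ⊗[A] N) ≃ₗ[B] L' ⊗[A] N :=
    ((AlgebraTensorModule.assoc A B B B' L N).symm).trans
      (AlgebraTensorModule.congr (hf.equiv.restrictScalars B) (LinearEquiv.refl A N))
  have hu : ∀ z, u z = e ((1 : B') ⊗ₜ[B] z) := by
    intro z
    induction z with
    | zero => simp
    | tmul m n => simp [u, e, IsBaseChange.equiv_tmul]
    | add x y hx hy => simp only [tmul_add, map_add, hx, hy]
  intro x y h
  apply Module.FaithfullyFlat.tensorProduct_mk_injective (A := B) (B := B') (L ⊗[A] N)
  apply e.injective
  show e (1 ⊗ₜ x) = e (1 ⊗ₜ y)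
  rw [← hu, ← hu]
  exact h

theorem countablyGenerated_of_finiteType (B L : Type u) [CommRing B] [Algebra A B] [Algebra.FiniteType A B]
    [AddCommGroup L] [Module B L] [Module A L] [IsScalarTower A B L] [Module.Finite B L] :
    CAlg.IsCountablyGenerated A L := by
  obtain ⟨k, f, hf⟩ := Algebra.FiniteType.iff_quotient_mvPolynomial''.1 (inferInstance : Algebra.FiniteType A B)
  obtain ⟨s, hs⟩ := Module.Finite.fg_top (R := B) (M := L)
  let T : Set B := f '' Set.range fun d : Fin k →₀ ℕ => MvPolynomial.monomial d (1 : A)
  refine ⟨T • (s : Set L), ((Set.countable_range _).image _).image2 s.countable_toSet _, ?_⟩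
  have hT : Submodule.span A T = ⊤ := by
    show Submodule.span A (f.toLinearMap '' _) = ⊤
    rw [Submodule.span_image, show Submodule.span A (Set.range fun d : Fin k →₀ ℕ => MvPolynomial.monomial d (1 : A)) = ⊤
      from (MvPolynomial.basisMonomials (Fin k) A).span_eq, Submodule.map_top, LinearMap.range_eq_top]
    exact hf
  rw [Submodule.span_smul_of_span_eq_top hT, hs, Submodule.restrictScalars_top]

set_option maxHeartbeats 800000 in
/-- Projectivity on a basic open inside the image of an etale map. -/
theorem projective_of_image {SA : Type u} [CommRing SA] [Algebra A SA] [Algebra SA C] [IsScalarTower A SA C]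
    [Algebra.FiniteType A SA] [Algebra.Etale SA C] (NA : Type u) [AddCommGroup NA] [Module SA NA] [Module A NA]
    [IsScalarTower A SA NA] [Module.Finite SA NA] [Module.Projective A (C ⊗[SA] NA)] (c : SA)
    (hsub : (PrimeSpectrum.basicOpen c : Set (PrimeSpectrum SA)) ⊆ Set.range (PrimeSpectrum.comap (algebraMap SA C)))
    (hu : CAlgX.UniversallyInjective A
      ((LinearMap.lsmul C (C ⊗[SA] NA) (algebraMap SA C c)).restrictScalars A))
    (B : Type u) [CommRing B] [Algebra SA B] [IsLocalization.Away c B] [Algebra A B] [IsScalarTower A SA B] :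
    Module.Projective A (B ⊗[SA] NA) := by
  let M := C ⊗[SA] NA
  let u := algebraMap SA C c
  let Cg := Localization.Away u
  letI : Algebra B Cg := (IsLocalization.Away.lift c (g := algebraMap SA Cg)
    (by rw [IsScalarTower.algebraMap_apply SA C Cg]; exact IsLocalization.Away.algebraMap_isUnit u)).toAlgebra
  haveI : IsScalarTower SA B Cg := IsScalarTower.of_algebraMap_eq fun x => (IsLocalization.Away.lift_eq c _ x).symm
  haveI : IsScalarTower A B Cg := IsScalarTower.to₁₃₄ A SA B Cg
  haveI := FlatEtNhd.faithfullyFlat_away c B Cg hsub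
  let M' := Cg ⊗[C] M
  let lM : M →ₗ[C] M' := TensorProduct.mk C Cg M 1
  have hlM : IsBaseChange Cg lM := TensorProduct.isBaseChange C M Cg
  haveI : IsLocalizedModule (Submonoid.powers u) lM := (isLocalizedModule_iff_isBaseChange (Submonoid.powers u) Cg _).2 hlM
  haveI : Module.Flat C Cg := IsLocalization.flat Cg (Submonoid.powers u)
  haveI : Module.Flat A M' := RGLib.flat_tensor_left A C M Cg
  letI : Module B M' := Module.compHom M' (algebraMap B Cg)
  haveI : IsScalarTower B Cg M' := IsScalarTower.of_algebraMap_smul fun _ _ => rfl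
  haveI : IsScalarTower SA B M' := IsScalarTower.to₁₂₄ SA B Cg M'
  haveI : IsScalarTower A B M' := IsScalarTower.to₁₂₄ A B Cg M'
  let L := B ⊗[SA] NA
  let g : NA →ₗ[SA] L := TensorProduct.mk SA B NA 1
  have hg : IsBaseChange B g := TensorProduct.isBaseChange SA NA B
  let f' : NA →ₗ[SA] M' := (lM.restrictScalars SA).comp (TensorProduct.mk SA C NA 1)
  have hf' : IsBaseChange Cg f' := (TensorProduct.isBaseChange SA NA C).comp hlM
  let a : L →ₗ[B] M' := hg.lift f'
  have ha : IsBaseChange Cg a := IsBaseChange.of_comp hg (by
    rw [show ((a.restrictScalars SA) ∘ₗ g) = f' from LinearMap.ext fun n => hg.lift_eq f' n]; exact hf')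
  haveI : IsScalarTower A B L := IsScalarTower.to₁₃₄ A SA B L
  haveI : Module.Flat A L :=
    DevEtale.flat_of_isBaseChange_faithfullyFlat (A := A) (B := B) (B' := Cg) (M := L) (M' := M') a ha
  have hML : CAlg.IsMittagLeffler A M' := ml_away u lM hu CAlgUI.ml_of_projective
  have hMLL : CAlg.IsMittagLeffler A L :=
    CAlgUI.ml_of_ui (a.restrictScalars A) (ui_of_faithfullyFlat (A := A) a ha) hML
  haveI : Algebra.FiniteType SA B :=
    haveI := IsLocalization.Away.finitePresentation (S := B) c
    inferInstance
  haveI : Algebra.FiniteType A B := Algebra.FiniteType.trans (S := SA) inferInstance inferInstance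
  haveI : Module.Finite B L := inferInstance
  exact CAlgUI.projective_of_flat_ml_countablyGenerated hMLL (countablyGenerated_of_finiteType B L)

end Groth.Agent.FlatEtOpen
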