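import Groth.Agent.FlatEtOpen.Avoid
import Groth.Agent.SpreadInj.Univ

/-! Projective sections on an affine open after inverting an element of the base. -/

set_option autoImplicit false
set_option backward.isDefEq.respectTransparency false
set_option backward.isDefEq.respectTransparency.types false
attribute [-instance] CategoryTheory.catToReflQuiver

universe u

open TensorProduct IsLocalRing

namespace Groth.Agent.FlatEtOpen

set_option maxHeartbeats 800000 in
theorem exists_finset_primes_fibre {R' S' : Type u} [CommRing R'] [CommRing S'] [Algebra R' S']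
    [Algebra.FiniteType R' S'] (M : Type u) [AddCommGroup M] [Module S' M] [Module R' M] [IsScalarTower R' S' M]
    [Module.Finite S' M] [Module.Projective R' M] (p' : Ideal R') [p'.IsPrime] :
    ∃ s : Finset (Ideal S'), (∀ P ∈ s, P.IsPrime) ∧ ∀ u : S', (∀ P ∈ s, u ∉ P) →
      ∀ (q : Ideal R') [q.IsPrime], q ≤ p' →
        Function.Injective (((LinearMap.lsmul S' M u).restrictScalars R').lTensor q.ResidueField) := by
  classical
  let A := Localization.AtPrime p'
  let CA := A ⊗[R'] S'
  letI : Algebra S' CA := Algebra.TensorProduct.rightAlgebra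
  haveI : IsScalarTower R' S' CA := Algebra.TensorProduct.right_isScalarTower
  haveI : Algebra.IsPushout R' A S' CA := TensorProduct.isPushout (R := R') (S := A) (T := S')
  haveI : Algebra.IsPushout R' S' A CA := Algebra.IsPushout.symm inferInstance
  let MA := CA ⊗[S'] M
  let e := Algebra.IsPushout.cancelBaseChange R' A S' CA M
  haveI : Module.Projective A MA := Module.Projective.of_equiv e.symm
  obtain ⟨s, hs, hui⟩ := exists_finset_primes (A := A) (C := CA) MA
  refine ⟨s.image (Ideal.comap (algebraMap S' CA)), fun P hP => ?_, fun u hu q _ hqp => ?_⟩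
  · obtain ⟨Q, hQ, rfl⟩ := Finset.mem_image.1 hP
    haveI := hs Q hQ
    exact Ideal.IsPrime.comap _
  let L := q.ResidueField
  have hunit : ∀ y : p'.primeCompl, IsUnit (algebraMap R' L y) := fun y =>
    isUnit_iff_ne_zero.2 fun h => y.2 (hqp (Ideal.algebraMap_residueField_eq_zero.1 h))
  letI : Algebra A L := (IsLocalization.lift (S := A) hunit).toAlgebra
  haveI : IsScalarTower R' A L := IsScalarTower.of_algebraMap_eq fun x => (IsLocalization.lift_eq hunit x).symm
  have huA := hui (algebraMap S' CA u) fun P hP h => hu _ (Finset.mem_image_of_mem _ hP) h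
  have h1 : Function.Injective (((LinearMap.lsmul CA MA (algebraMap S' CA u)).restrictScalars A).lTensor L) :=
    (LinearMap.lTensor_inj_iff_rTensor_inj _ _).2 (huA L)
  rw [← SpreadInj.injective_baseChange_iff (D := A)]
  let φ := (LinearMap.lsmul S' M u).restrictScalars R'
  have hsq : ∀ z, e.symm (φ.baseChange A z) =
      ((LinearMap.lsmul CA MA (algebraMap S' CA u)).restrictScalars A) (e.symm z) := fun z => by
    induction z using TensorProduct.induction_on with
    | zero => simp
    | add x y hx hy => simp only [map_add, hx, hy]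
    | tmul a m =>
      simp only [e, φ, LinearMap.baseChange_tmul, Algebra.IsPushout.cancelBaseChange_symm_tmul,
        LinearMap.coe_restrictScalars, LinearMap.lsmul_apply, TensorProduct.tmul_smul, algebraMap_smul]
  have hc : ((LinearMap.lsmul CA MA (algebraMap S' CA u)).restrictScalars A) ∘ₗ e.symm.toLinearMap =
      e.symm.toLinearMap ∘ₗ φ.baseChange A := LinearMap.ext fun z => (hsq z).symm
  have hc' := congrArg (fun l => ⇑(LinearMap.lTensor L l)) hc
  simp only [LinearMap.lTensor_comp, LinearMap.coe_comp] at hc'
  rw [← (e.symm.lTensor L).injective.of_comp_iff]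
  show Function.Injective (⇑(e.symm.toLinearMap.lTensor L) ∘ _)
  rw [← hc']
  exact h1.comp (e.symm.lTensor L).injective

set_option maxHeartbeats 800000 in
theorem exists_spread {R' T S' : Type u} [CommRing R'] [CommRing T] [CommRing S'] [Algebra R' T] [Algebra T S']
    [Algebra R' S'] [IsScalarTower R' T S'] [Algebra.FinitePresentation R' T] [Algebra.Etale T S']
    (M : Type u) [AddCommGroup M] [Module S' M] [Module R' M] [IsScalarTower R' S' M] [Module.FinitePresentation S' M]
    [Module.Projective R' M] (p' : Ideal R') [p'.IsPrime] (q' : Ideal S') [q'.IsPrime] :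
    ∃ (f : R') (c : T), f ∉ p' ∧ algebraMap T S' c ∉ q' ∧
      (PrimeSpectrum.basicOpen c : Set (PrimeSpectrum T)) ⊆ Set.range (PrimeSpectrum.comap (algebraMap T S')) ∧
      ∀ (q : Ideal R') [q.IsPrime], f ∉ q →
        Function.Injective (((LinearMap.lsmul S' M (algebraMap T S' c)).restrictScalars R').lTensor q.ResidueField) := by
  haveI : Algebra.FinitePresentation R' S' := Algebra.FinitePresentation.trans R' T S'
  obtain ⟨s, hs, hinj⟩ := exists_finset_primes_fibre (R' := R') (S' := S') M p'
  obtain ⟨c, hcq, hcs, hsub⟩ := exists_basic_avoiding (SA := T) s hs q'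
  obtain ⟨f, hf, hfq⟩ := SpreadInj.exists_away (LinearMap.lsmul S' M (algebraMap T S' c)) p'
    fun q _ hq => hinj _ hcs q hq
  exact ⟨f, c, hf, hcq, hsub, hfq⟩

theorem basicOpen_subset_range {T S' U C : Type u} [CommRing T] [CommRing S'] [CommRing U] [CommRing C]
    [Algebra T S'] [Algebra T U] [Algebra T C] [Algebra S' C] [Algebra U C] [IsScalarTower T S' C] [IsScalarTower T U C]
    [Algebra.IsPushout T U S' C] (c : T)
    (hsub : (PrimeSpectrum.basicOpen c : Set (PrimeSpectrum T)) ⊆ Set.range (PrimeSpectrum.comap (algebraMap T S'))) :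
    (PrimeSpectrum.basicOpen (algebraMap T U c) : Set (PrimeSpectrum U)) ⊆
      Set.range (PrimeSpectrum.comap (algebraMap U C)) := by
  intro P hP
  have hPT := hsub (show PrimeSpectrum.comap (algebraMap T U) P ∈ (PrimeSpectrum.basicOpen c : Set _) from hP)
  rw [← PrimeSpectrum.nontrivial_iff_mem_rangeComap] at hPT ⊢
  let p := P.asIdeal.comap (algebraMap T U)
  let ι : p.ResidueField →ₐ[T] P.asIdeal.ResidueField := Ideal.ResidueField.mapₐ p P.asIdeal (Algebra.ofId T U) rfl
  letI : Algebra p.ResidueField P.asIdeal.ResidueField := ι.toRingHom.toAlgebra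
  haveI : IsScalarTower T p.ResidueField P.asIdeal.ResidueField :=
    IsScalarTower.of_algebraMap_eq fun r => (ι.commutes r).symm
  haveI : Nontrivial (p.ResidueField ⊗[T] S') := hPT
  let e : P.asIdeal.ResidueField ⊗[U] C ≃ₗ[P.asIdeal.ResidueField] P.asIdeal.ResidueField ⊗[T] S' :=
    (TensorProduct.AlgebraTensorModule.congr (LinearEquiv.refl P.asIdeal.ResidueField P.asIdeal.ResidueField)
      (Algebra.IsPushout.equiv T U S' C).symm.toLinearEquiv).trans
      (TensorProduct.AlgebraTensorModule.cancelBaseChange T U P.asIdeal.ResidueField P.asIdeal.ResidueField S')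
  haveI : Nontrivial (P.asIdeal.ResidueField ⊗[p.ResidueField] (p.ResidueField ⊗[T] S')) :=
    Algebra.TensorProduct.nontrivial_of_algebraMap_injective_of_flat_right p.ResidueField P.asIdeal.ResidueField
      (p.ResidueField ⊗[T] S') (algebraMap p.ResidueField P.asIdeal.ResidueField).injective
  haveI : Nontrivial (P.asIdeal.ResidueField ⊗[T] S') :=
    (TensorProduct.AlgebraTensorModule.cancelBaseChange T p.ResidueField P.asIdeal.ResidueField
      P.asIdeal.ResidueField S').symm.nontrivial
  exact e.nontrivial

set_option maxHeartbeats 1600000 in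
theorem projective_open_model {R' Rf T S' U : Type u} [CommRing R'] [CommRing Rf] [CommRing T] [CommRing S']
    [CommRing U] [Algebra R' Rf] [Algebra R' T] [Algebra T S'] [Algebra R' S'] [IsScalarTower R' T S']
    [Algebra Rf U] [Algebra T U] [Algebra R' U] [IsScalarTower R' Rf U] [IsScalarTower R' T U]
    [Algebra.IsPushout R' Rf T U] [Algebra.Etale T S'] [Algebra.FiniteType R' T]
    {NT NU : Type u} [AddCommGroup NT] [Module T NT] [Module.Finite T NT] [AddCommGroup NU] [Module U NU] [Module T NU]
    [IsScalarTower T U NU] (g : NT →ₗ[T] NU) (hg : IsBaseChange U g)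
    (M : Type u) [AddCommGroup M] [Module S' M] [Module T M] [IsScalarTower T S' M] [Module R' M]
    [IsScalarTower R' S' M] (h : NT →ₗ[T] M) (hh : IsBaseChange S' h) [Module.Projective R' M] (c : T)
    (hsub : (PrimeSpectrum.basicOpen c : Set (PrimeSpectrum T)) ⊆ Set.range (PrimeSpectrum.comap (algebraMap T S')))
    (hinj : ∀ (q : Ideal Rf) [q.IsPrime], Function.Injective
      (((LinearMap.lsmul S' M (algebraMap T S' c)).restrictScalars R').lTensor (q.comap (algebraMap R' Rf)).ResidueField))
    (B : Type u) [CommRing B] [Algebra U B] [IsLocalization.Away (algebraMap T U c) B] [Algebra Rf B]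
    [IsScalarTower Rf U B] : Module.Projective Rf (RestrictScalars Rf B (B ⊗[U] NU)) := by
  haveI : Module.Finite U NU := Module.Finite.equiv hg.equiv
  haveI : Algebra.FiniteType Rf U :=
    Algebra.FiniteType.equiv (inferInstanceAs (Algebra.FiniteType Rf (Rf ⊗[R'] T))) (Algebra.IsPushout.equiv R' Rf T U)
  let C := U ⊗[T] S'
  letI : Algebra S' C := Algebra.TensorProduct.rightAlgebra
  haveI : IsScalarTower T S' C := Algebra.TensorProduct.right_isScalarTower
  haveI : Algebra.IsPushout T U S' C := TensorProduct.isPushout (R := T) (S := U) (T := S')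
  haveI : Algebra.IsPushout T S' U C := Algebra.IsPushout.symm inferInstance
  haveI : Algebra.Etale U C := inferInstanceAs (Algebra.Etale U (U ⊗[T] S'))
  haveI : Algebra.IsPushout R' T Rf U := Algebra.IsPushout.symm inferInstance
  haveI : IsScalarTower R' T C := IsScalarTower.to₁₂₄ R' T U C
  haveI : IsScalarTower R' S' C := IsScalarTower.to₁₃₄ R' T S' C
  haveI : IsScalarTower R' Rf C := IsScalarTower.to₁₂₄ R' Rf U C
  haveI : Algebra.IsPushout R' S' Rf C := DevExist.isPushout_trans R' T S' Rf U C
  haveI : Algebra.IsPushout R' Rf S' C := Algebra.IsPushout.symm inferInstance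
  letI : Module Rf NU := Module.compHom NU (algebraMap Rf U)
  haveI : IsScalarTower Rf U NU := IsScalarTower.of_algebraMap_smul fun _ _ => rfl
  let M'' := C ⊗[U] NU
  letI : Module S' M'' := Module.compHom M'' (algebraMap S' C)
  haveI : IsScalarTower S' C M'' := IsScalarTower.of_algebraMap_smul fun _ _ => rfl
  haveI : IsScalarTower T S' M'' := IsScalarTower.to₁₂₄ T S' C M''
  let g'' : NT →ₗ[T] M'' := ((TensorProduct.mk U C NU 1).restrictScalars T).comp g
  have hg'' : IsBaseChange C g'' := hg.comp (TensorProduct.isBaseChange U NU C)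
  let a : M →ₗ[S'] M'' := hh.lift g''
  have ha : IsBaseChange C a := IsBaseChange.of_comp hh (by
    rw [show ((a.restrictScalars T) ∘ₗ h) = g'' from LinearMap.ext fun n => hh.lift_eq g'' n]; exact hg'')
  haveI : IsScalarTower Rf C M'' := inferInstance
  let e : (Rf ⊗[R'] M) ≃ₗ[Rf] M'' :=
    (Algebra.IsPushout.cancelBaseChange R' Rf S' C M).symm.trans (ha.equiv.restrictScalars Rf)
  haveI : Module.Projective Rf M'' := Module.Projective.of_equiv e
  let u := algebraMap U C (algebraMap T U c)
  have hu : u = algebraMap S' C (algebraMap T S' c) := by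
    show algebraMap U C (algebraMap T U c) = _
    rw [← IsScalarTower.algebraMap_apply T U C, ← IsScalarTower.algebraMap_apply T S' C]
  have hfib : ∀ (q : Ideal Rf) [q.IsPrime],
      Function.Injective (((LinearMap.lsmul C M'' u).restrictScalars Rf).lTensor q.ResidueField) := by
    intro q _
    have h1 := (SpreadInj.injective_residueField_iff (R' := Rf)
      ((LinearMap.lsmul S' M (algebraMap T S' c)).restrictScalars R') q).2 (hinj q)
    let φ := (LinearMap.lsmul S' M (algebraMap T S' c)).restrictScalars R'
    have hsq : ∀ z, e (φ.baseChange Rf z) = ((LinearMap.lsmul C M'' u).restrictScalars Rf) (e z) := fun z => by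
      induction z using TensorProduct.induction_on with
      | zero => simp
      | add x y hx hy => simp only [map_add, hx, hy]
      | tmul r m =>
        simp only [e, φ, LinearMap.baseChange_tmul, LinearEquiv.trans_apply, LinearMap.coe_restrictScalars,
          Algebra.IsPushout.cancelBaseChange_symm_tmul, LinearEquiv.restrictScalars_apply, IsBaseChange.equiv_tmul,
          LinearMap.lsmul_apply, map_smul, hu, algebraMap_smul]
        rw [LinearMap.map_smul_of_tower, smul_comm]
    have hc : ((LinearMap.lsmul C M'' u).restrictScalars Rf) ∘ₗ e.toLinearMap = e.toLinearMap ∘ₗ φ.baseChange Rf :=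
      LinearMap.ext fun z => (hsq z).symm
    have hc' := congrArg (fun l => ⇑(LinearMap.lTensor q.ResidueField l)) hc
    simp only [LinearMap.lTensor_comp, LinearMap.coe_comp] at hc'
    rw [← Function.Injective.of_comp_iff' _ (e.lTensor q.ResidueField).bijective]
    show Function.Injective (_ ∘ ⇑(e.toLinearMap.lTensor q.ResidueField))
    rw [hc']
    exact (e.lTensor q.ResidueField).injective.comp h1
  haveI : Module.Projective Rf (B ⊗[U] NU) := projective_of_image NU (algebraMap T U c)
    (basicOpen_subset_range c hsub) (fun Q _ _ => SpreadInj.ui_of_fibres _ hfib Q) B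
  exact Module.Projective.of_equiv ({ (RestrictScalars.addEquiv Rf B (B ⊗[U] NU)).symm with
    map_smul' := fun a m => (IsScalarTower.algebraMap_smul B a m).symm } :
      (B ⊗[U] NU) ≃ₗ[Rf] RestrictScalars Rf B (B ⊗[U] NU))

end Groth.Agent.FlatEtOpen
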